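import Groth.Agent.CycLib.P1Rat
import Groth.Agent.CycLib.P1Closed
import Groth.Agent.CycLib.SubFun
import Groth.Agent.CycLib.PushRat
import Groth.Agent.DevLib.Closed

/-! # A rational function as a difference of fibres in the projective line -/

set_option autoImplicit false
set_option backward.isDefEq.respectTransparency false
set_option linter.style.haveILetI false
set_option linter.unusedSectionVars false

universe u

open CategoryTheory CategoryTheory.Limits AlgebraicGeometry TopologicalSpace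
open Groth.Agent.AmpleLib Groth.Agent.DCohLib Groth.Agent.ParaFLib

noncomputable section

namespace Groth.Agent.P1DivLib

open CycLib CycLib.P1Sect
open AmpleEmb (stdOpen coordRatio coordForm coordSec)

variable {X : Scheme.{u}}

/-- The projection of the line to the base. -/
abbrev tb (X : Scheme.{u}) : CohB1.ProjSpaceOver 1 X ⟶ X := CohB1.ProjSpaceOver.toBase 1 X

instance : IsProper (tb X) := MorphismProperty.pullback_snd _ _ inferInstance

theorem otherIdx_zero : otherIdx (0 : Fin (1 + 1)) = 1 := rfl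
theorem otherIdx_one : otherIdx (1 : Fin (1 + 1)) = 0 := rfl

/-- The points of a section are the points outside the other chart. -/
theorem mem_range_sect (i : Fin (1 + 1)) (p : CohB1.ProjSpaceOver 1 X) :
    p ∈ Set.range (P1.sect X i) ↔ prZ X p ∉ stdOpen 1 P1.R0.{u} (otherIdx i) := by
  have h : Set.range (P1.sect X i) = Set.range (pullback.fst (prZ X) (P1.point.{u} i)) := by
    conv_rhs => rw [← pullIso_hom_sect]
    rw [Scheme.Hom.comp_base, TopCat.coe_comp, Set.range_comp,
      Set.range_eq_univ.2 fun y => ⟨(pullIso i X).inv y, by rw [← Scheme.Hom.comp_apply, Iso.inv_hom_id]; rfl⟩,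
      Set.image_univ]
  rw [h, Scheme.Pullback.range_fst, range_point]
  rfl

/-- The value of the coordinate ratio. -/
def ratioAt (p : CohB1.ProjSpaceOver 1 X) (hp : prZ X p ∈ stdOpen 1 P1.R0.{u} 0) :
    (CohB1.ProjSpaceOver 1 X).residueField p :=
  (CohB1.ProjSpaceOver 1 X).residue p ((CohB1.ProjSpaceOver 1 X).presheaf.germ (prZ X ⁻¹ᵁ stdOpen 1 P1.R0 0) p hp
    ((prZ X).app (stdOpen 1 P1.R0 0) (coordRatio 1 P1.R0.{u} 0 1)))

theorem ratioAt_ne_zero_iff (p : CohB1.ProjSpaceOver 1 X) (hp : prZ X p ∈ stdOpen 1 P1.R0.{u} 0) :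
    ratioAt p hp ≠ 0 ↔ prZ X p ∈ stdOpen 1 P1.R0.{u} 1 := by
  show (CohB1.ProjSpaceOver 1 X).evaluation (prZ X ⁻¹ᵁ stdOpen 1 P1.R0 0) p hp
    ((prZ X).app (stdOpen 1 P1.R0 0) (coordRatio 1 P1.R0.{u} 0 1)) ≠ 0 ↔ _
  rw [ne_eq, Scheme.evaluation_eq_zero_iff_notMem_basicOpen, not_not, ← Scheme.preimage_basicOpen,
    AmpleEmb.basicOpen_coordRatio]
  exact ⟨fun h => h.2, fun h => ⟨hp, h⟩⟩

variable {δ : X → ℤ} {δP : ↥(CohB1.ProjSpaceOver 1 X) → ℤ}

/-- The associated points of an integral scheme. -/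
theorem eq_genericPoint_of_associated {W : Scheme.{u}} [IsIntegral W] {w : W}
    (hw : IsAssociatedPrime (IsLocalRing.maximalIdeal (W.presheaf.stalk w)) (W.presheaf.stalk w)) :
    w = genericPoint W := by
  have hbot : IsLocalRing.maximalIdeal (W.presheaf.stalk w) = ⊥ := by
    obtain ⟨hp, a, ha⟩ := hw
    by_cases h : a = 0
    · subst h
      exact absurd (ha.trans (Ideal.radical_eq_top.2 ((Submodule.colon_eq_top_iff_subset _).2 (by simp)))) hp.ne_top
    · refine ha.trans (le_bot_iff.1 fun r hr => ?_)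
      obtain ⟨n, hn⟩ := hr
      rw [Submodule.mem_colon_singleton, Submodule.mem_bot, smul_eq_mul] at hn
      exact eq_zero_of_pow_eq_zero ((mul_eq_zero.1 hn).resolve_right h)
  obtain ⟨Q, hQ⟩ := CycLib.exists_fromSpecStalk (genericPoint_specializes w)
  have hQc : Q = IsLocalRing.closedPoint (W.presheaf.stalk w) := PrimeSpectrum.ext (le_antisymm
    (IsLocalRing.le_maximalIdeal Q.2.ne_top) (by
      show IsLocalRing.maximalIdeal (W.presheaf.stalk w) ≤ Q.asIdeal
      rw [hbot]; exact bot_le))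
  rwa [hQc, Scheme.fromSpecStalk_closedPoint] at hQ

open scoped Classical in
/-- The fibres over the sections of an integral subscheme differ by the push forward of a principal divisor. -/
theorem fibre_sub_eq (hX : Cyc.IsSetup X δ) (hP : Cyc.DeltaCompat (tb X) δP δ) (k : ℤ) {W : Scheme.{u}}
    [IsIntegral W] (ι : W ⟶ CohB1.ProjSpaceOver 1 X) [IsClosedImmersion ι] (p₀ : CohB1.ProjSpaceOver 1 X)
    (hp₀ : ι (genericPoint W) = p₀) (hW : δP p₀ = k + 1) (h0 : p₀ ∉ Set.range ⇑(P1.sect X 0))
    (h1 : prZ X p₀ ∈ stdOpen 1 P1.R0.{u} 0) (x : X) :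
    Cyc.subschemeFun δ k (pullback.snd ι (P1.sect X 0)) x - Cyc.subschemeFun δ k (pullback.snd ι (P1.sect X 1)) x =
      if δP p₀ = δ (tb X p₀) then
        Cyc.divFun δ (tb X p₀) (Cyc.normGen (tb X) p₀ (ratioAt p₀ h1)) x else 0 := by
  haveI := hX.1
  have h1' : p₀ ∉ Set.range ⇑(P1.sect X 1) := fun h => (mem_range_sect 1 p₀).1 h h1
  have h0' : prZ X p₀ ∈ stdOpen 1 P1.R0.{u} 1 := not_not.1 fun h => h0 ((mem_range_sect 0 p₀).2 h)
  have hsP := isSetup_of_lft (tb X) hX hP
  haveI := hsP.1
  have hδ := hsP.2.2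
  have hL := isInvertible_lineBundle X
  have hspec : ∀ w : W, p₀ ⤳ ι w := fun w => hp₀ ▸ (genericPoint_specializes w).map ι.continuous
  have hlt : ∀ w : W, ι w ≠ p₀ → δP (ι w) < k + 1 := fun w hw => hW ▸ (hδ _ _ (hspec w) fun e => hw e.symm).1
  have hle : ∀ w : W, δP (ι w) ≤ k + 1 := fun w => by
    by_cases h : ι w = p₀
    · rw [h, hW]
    · exact (hlt w h).le
  -- the module of the subscheme and its cycle
  have hF := DevLib.isCoh_pushforward_closed ι (DevLib.isCoh_structureModule W)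
  let F := (Coh.push ι).obj (Coh.structureModule W)
  have hsuppF : ∀ p : ↥(CohB1.ProjSpaceOver 1 X), Nontrivial (F.presheaf.stalk p) → p ∈ Set.range ι := fun p hp => by
    by_contra hn
    exact not_subsingleton_iff_nontrivial.2 hp (DCohLib.subsingleton_stalk_pushforward ι _ _ hn)
  haveI := hF.1
  have hC : Cyc.sheafFun δP (k + 1) F = fun ξ => if ξ = p₀ then (1 : ℤ) else 0 := by
    have h2 := S1899.result (CohB1.ProjSpaceOver 1 X) W δP hsP ι (k + 1) hle
    funext ξ
    rw [← congrFun h2 ξ, Cyc.subschemeFun]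
    by_cases hξ : ξ = p₀
    · subst hξ
      rw [if_pos hW, if_pos rfl, show {z : W | ι z = ξ} = {genericPoint W} from Set.ext fun z =>
        ⟨fun h => ι.isEmbedding.injective (h.trans hp₀.symm), fun h => by rw [h]; exact hp₀⟩, finsum_mem_singleton]
      haveI : IsSimpleModule (W.presheaf.stalk (genericPoint W)) (W.presheaf.stalk (genericPoint W)) := by
        letI := (show IsField (W.presheaf.stalk (genericPoint W)) from Field.toIsField W.functionField).toField
        infer_instance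
      rw [Module.length_eq_one]
      simp
    · rw [if_neg hξ]
      split_ifs with hd
      · refine finsum_mem_eq_zero_of_forall_eq_zero fun z hz => ?_
        change ι z = ξ at hz
        exact absurd (hlt z (hz ▸ hξ)) (by rw [hz, hd]; exact lt_irrefl _)
      · rfl
  -- the Gysin cycles of the two sections
  have hw : ∀ ξ, ∃ w : Cyc.secFibre (lineBundle X) ξ, w ≠ 0 := fun ξ => by
    obtain ⟨t, ht⟩ := exists_genAt hL ξ
    have ht' : Function.Bijective fun r : (CohB1.ProjSpaceOver 1 X).presheaf.stalk ξ => r • t := by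
      have := ht ξ specializes_rfl
      rwa [TopCat.Presheaf.stalkSpecializes_refl] at this
    exact ⟨mkF _ ξ t, fun e => one_ne_zero (α := (CohB1.ProjSpaceOver 1 X).residueField ξ) (by
      rw [← map_one ((CohB1.ProjSpaceOver 1 X).residue ξ).hom]
      exact (smul_mkF_eq_zero_iff ht' 1).1 (by rw [one_smul]; exact e))⟩
  choose w hw using hw
  let s : Fin (1 + 1) → (ξ : CohB1.ProjSpaceOver 1 X) → Cyc.secFibre (lineBundle X) ξ := fun j =>
    Cyc.gysinChoice (lineBundle X) (sectEq j X) w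
  have hcap : ∀ j (p : CohB1.ProjSpaceOver 1 X), Cyc.c1CapFun δP (lineBundle X) (Cyc.sheafFun δP (k + 1) F) (s j) p =
      Cyc.secDivFun δP (lineBundle X) p₀ (s j p₀) p := by
    intro j p
    rw [Cyc.c1CapFun, hC, finsum_eq_single _ p₀ fun ξ hξ => by simp only [if_neg hξ, zero_mul]]
    simp only [if_true, one_mul]
  -- the two sections at the generic point
  let g := (CohB1.ProjSpaceOver 1 X).presheaf.germ (prZ X ⁻¹ᵁ stdOpen 1 P1.R0 0) p₀ h1
    ((prZ X).app (stdOpen 1 P1.R0 0) (coordRatio 1 P1.R0.{u} 0 1))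
  have hne : ratioAt p₀ h1 ≠ 0 := (ratioAt_ne_zero_iff p₀ h1).2 h0'
  have hs : s 0 p₀ = g • s 1 p₀ := by
    have e0 := (germ_gen (w := w) hL (isZeroSchemeOf_sect 0 X) h0).2
    have e1 := (germ_gen (w := w) hL (isZeroSchemeOf_sect 1 X) h1').2
    show Cyc.gysinChoice _ (sectEq 0 X) w p₀ = g • Cyc.gysinChoice _ (sectEq 1 X) w p₀
    rw [e0, e1]
    show (Submodule.Quotient.mk _ : Cyc.secFibre (lineBundle X) p₀) = g • Submodule.Quotient.mk _
    rw [← Submodule.Quotient.mk_smul]
    exact congrArg _ (AmpleEmb.coord_pullback_ratio (prZ X) 0 1 p₀ h1)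
  have hs1 : s 1 p₀ ≠ 0 := gysinChoice_ne_zero hw p₀
  have hdiff : ∀ p, Cyc.c1CapFun δP (lineBundle X) (Cyc.sheafFun δP (k + 1) F) (s 0) p -
      Cyc.c1CapFun δP (lineBundle X) (Cyc.sheafFun δP (k + 1) F) (s 1) p = Cyc.divFun δP p₀ (ratioAt p₀ h1) p := by
    intro p
    rw [hcap, hcap, hs, secDivFun_smul hδ hL p₀ p hne hs1]
    exact add_sub_cancel_right _ _
  -- push to the base
  let C : AlgebraicCycle (CohB1.ProjSpaceOver 1 X) ℤ := CycLib.P1Rat.sheafCycle (δ := δP) (k := k + 1) hF
  let γ : Fin (1 + 1) → AlgebraicCycle (CohB1.ProjSpaceOver 1 X) ℤ := fun j => c1Cycle hδ hL C (s j)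
  have hγ : ∀ j p, γ j p = Cyc.c1CapFun δP (lineBundle X) (Cyc.sheafFun δP (k + 1) F) (s j) p := fun j p => rfl
  have key : ∀ (j : Fin (1 + 1)) (d : X), AlgebraicCycle.map (tb X) δP δ (γ j) d =
      Cyc.subschemeFun δ k (pullback.snd ι (P1.sect X j)) d := by
    intro j d
    have hjle : ∀ z : ↥(pullback ι (P1.sect X j)), δ (pullback.snd ι (P1.sect X j) z) ≤ k := by
      intro z
      rw [← (CycLib.P1Rat.delta_sect hP j _).1]
      have hc : ι (pullback.fst ι (P1.sect X j) z) = P1.sect X j (pullback.snd ι (P1.sect X j) z) :=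
        congr($(pullback.condition (f := ι) (g := P1.sect X j)) z)
      rw [← hc]
      have := hlt (pullback.fst ι (P1.sect X j) z) fun e => by
        have hm : p₀ ∈ Set.range (P1.sect X j) := ⟨_, hc.symm.trans e⟩
        fin_cases j
        · exact h0 hm
        · exact h1' hm
      omega
    rw [SubFun.subschemeFun_snd ι (P1.sect X j) hX hjle]
    obtain ⟨h3, h4, h5⟩ := CycLib.P1Rat.delta_sect hP j d
    rw [map_apply_eq_sum _ _ d {P1.sect X j d} fun x hx hne => ?_]
    · rw [Finset.sum_singleton, Set.indicator_of_mem (show P1.sect X j d ∈ (tb X) ⁻¹' {d} from h4), h5, Nat.cast_one,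
        mul_one, hγ]
      by_cases hd : δ d = k
      · rw [Cyc.sheafFun.eq_def δ k ((Scheme.Modules.pullback (P1.sect X j)).obj F)]
        simp only [if_pos hd]
        refine GysinSheaf.fibre_sum hsP hL (isZeroSchemeOf_sect j X) hF (fun p hp => ?_) (fun x hx t f _ hf =>
          GysinSheaf.regular_of_assPoints (fun y hyx hy hz => ?_) t f hf) (h3.trans hd) w
        · obtain ⟨z, rfl⟩ := hsuppF p hp
          exact hle z
        · obtain ⟨z, hz', hass⟩ := CycLib.P1Closed.isAssPoint_push ι hy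
          subst hz'
          obtain rfl := eq_genericPoint_of_associated hass
          have hm : p₀ ∈ Set.range (P1.sect X j) := by
            rw [(isZeroSchemeOf_sect j X).1, ← hp₀]
            exact hz
          fin_cases j
          · exact h0 hm
          · exact h1' hm
      · rw [c1CapFun_eq_zero_of_ne (a := Cyc.sheafFun δP (k + 1) F) (fun ξ hξ => if_neg hξ) _
          (by rw [h3]; exact hd), Cyc.sheafFun, if_neg hd]
    · obtain ⟨ξ, hξ⟩ := exists_ne_zero_finsum hne
      obtain ⟨d', rfl⟩ := mem_range_of_gysin hδ hL (isZeroSchemeOf_sect j X) (right_ne_zero_of_mul hξ)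
      rw [(CycLib.P1Rat.delta_sect hP j d').2.1] at hx
      rw [hx]
      exact Finset.mem_singleton_self _
  rw [← key 0 x, ← key 1 x, ← sum_divFun (tb X) hsP hX hP p₀ (ratioAt p₀ h1) hne x,
    ← map_sub_apply (tb X) (γ 0) (γ 1) x, AlgebraicCycle.map, Function.locallyFinsupp.map_apply]
  refine finsum_mem_congr rfl fun p _ => ?_
  show (γ 0 p - γ 1 p) * _ = _
  rw [hγ, hγ, hdiff]

end Groth.Agent.P1DivLib
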