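import Groth.Agent.P1DivLib.Basic
import Groth.Agent.S2266

/-! # The point of the projective line given by a rational function -/

set_option autoImplicit false
set_option backward.isDefEq.respectTransparency false
set_option linter.style.haveILetI false
set_option linter.unusedSectionVars false

universe u

open CategoryTheory CategoryTheory.Limits AlgebraicGeometry TopologicalSpace
open Groth.Agent.AmpleLib Groth.Agent.DCohLib Groth.Agent.ParaFLib

noncomputable section

namespace Groth.Agent.P1DivLib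

open CycLib CycLib.P1Sect
open AmpleEmb (stdOpen coordRatio coordForm coordSec)

/-- Natural form of the chart maps. -/
theorem chartMap_comp (i : Fin (1 + 1)) {B B' : Type u} [CommRing B] [CommRing B'] (ρ : B →+* B') (b : B) :
    ρ.comp (P1.chartMap i B b) = P1.chartMap i B' (ρ b) := by
  rw [P1.chartMap, P1.chartMap, ← RingHom.comp_assoc]
  congr 1
  refine IsLocalization.ringHom_ext (Submonoid.powers (P1.T.{u} i)) ?_
  rw [RingHom.comp_assoc, IsLocalization.Away.lift_comp, IsLocalization.Away.lift_comp]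
  refine MvPolynomial.ringHom_ext (fun r => ?_) fun a => ?_
  · simp
  · simp only [RingHom.coe_comp, Function.comp_apply, MvPolynomial.eval₂Hom_X']
    by_cases ha : a = i
    · subst ha
      simp
    · simp [Function.update_of_ne ha]

/-- The chart map sends the coordinate ratio to the given element. -/
theorem chartMap_uElem (B : Type u) [CommRing B] (b : B) : P1.chartMap 0 B b (uElem.{u} 0) = b := by
  show (IsLocalization.Away.lift (S := Localization.Away (P1.T.{u} 0)) (P1.T.{u} 0)
    (g := MvPolynomial.eval₂Hom ((Int.castRingHom B).comp ULift.ringEquiv.toRingHom)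
      (Function.update (fun _ => b) (0 : Fin (1 + 1)) 1)) (by simp))
    (uElem.{u} 0).val = b
  have h : (uElem.{u} 0).val * algebraMap (MvPolynomial (Fin (1 + 1)) P1.R0.{u}) (Localization.Away (P1.T.{u} 0)) (P1.T.{u} 0) =
      algebraMap (MvPolynomial (Fin (1 + 1)) P1.R0.{u}) (Localization.Away (P1.T.{u} 0)) (P1.T (otherIdx 0)) := by
    rw [uElem, HomogeneousLocalization.Away.val_mk,
      ← Localization.mk_one_eq_algebraMap, Localization.mk_mul, ← Localization.mk_one_eq_algebraMap]
    refine Localization.mk_eq_mk_iff.2 (Localization.r_iff_exists.2 ⟨1, ?_⟩)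
    simp [mul_comm]
  have h2 := congrArg (IsLocalization.Away.lift (P1.T.{u} 0) (S := Localization.Away (P1.T.{u} 0))
    (g := MvPolynomial.eval₂Hom ((Int.castRingHom B).comp ULift.ringEquiv.toRingHom)
      (Function.update (fun _ => b) (0 : Fin (1 + 1)) 1)) (by simp)) h
  rw [map_mul, IsLocalization.Away.lift_eq, IsLocalization.Away.lift_eq] at h2
  simpa [otherIdx_zero] using h2

/-- A chart map on sections. -/
theorem awayι_appLE {B : CommRingCat.{u}} (c : CommRingCat.of (HomogeneousLocalization.Away P1.grading.{u} (P1.T 0)) ⟶ B)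
    (h : (⊤ : (Spec B).Opens) ≤ (Spec.map c ≫ Proj.awayι P1.grading.{u} (P1.T 0) (P1.X_mem 0) one_pos) ⁻¹ᵁ
      stdOpen 1 P1.R0 0) :
    Proj.awayToSection P1.grading.{u} (P1.T 0) ≫
      (Spec.map c ≫ Proj.awayι P1.grading.{u} (P1.T 0) (P1.X_mem 0) one_pos).appLE (stdOpen 1 P1.R0 0) ⊤ h =
      c ≫ (Scheme.ΓSpecIso B).inv := by
  let e := Proj.basicOpenIsoSpec P1.grading.{u} (P1.T 0) (P1.X_mem 0) one_pos
  have h1 : (Spec.map c ≫ Proj.awayι P1.grading.{u} (P1.T 0) (P1.X_mem 0) one_pos).resLE (stdOpen 1 P1.R0 0) ⊤ h =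
      (⊤ : (Spec B).Opens).ι ≫ Spec.map c ≫ e.inv := by
    rw [← cancel_mono (stdOpen 1 P1.R0 0).ι, Scheme.Hom.resLE_comp_ι, Category.assoc, Category.assoc]
    rfl
  haveI : IsIso (⊤ : (Spec B).Opens).toSpecΓ := (isAffineOpen_top _).isoSpec.isIso_hom
  refine Spec.map_injective ((cancel_epi (⊤ : (Spec B).Opens).toSpecΓ).1 ?_)
  rw [Spec.map_comp, Scheme.Opens.toSpecΓ_SpecMap_appLE_assoc, h1, Category.assoc, Category.assoc, Spec.map_comp]
  have h2 : e.inv ≫ (stdOpen 1 P1.R0 0).toSpecΓ ≫ Spec.map (Proj.awayToSection P1.grading.{u} (P1.T 0)) = 𝟙 _ :=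
    e.inv_hom_id
  rw [h2, Category.comp_id, ← Category.assoc]
  congr 1
  rw [Scheme.Opens.toSpecΓ_top, Category.assoc, toSpecΓ_SpecMap_ΓSpecIso_inv, Category.comp_id]

variable {X : Scheme.{u}} (η : X) (g : X.residueField η)

/-- The point of the line given by a rational function. -/
def σ : Spec (CommRingCat.of (X.residueField η)) ⟶ CohB1.ProjSpaceOver 1 X :=
  pullback.lift (Spec.map (CommRingCat.ofHom (P1.chartMap 0 (X.residueField η) g)) ≫
      Proj.awayι P1.grading.{u} (P1.T 0) (P1.X_mem 0) one_pos)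
    (X.fromSpecResidueField η) (specULiftZIsTerminal.hom_ext _ _)

theorem σ_tb : σ η g ≫ tb X = X.fromSpecResidueField η := pullback.lift_snd _ _ _

theorem σ_prZ : σ η g ≫ prZ X = Spec.map (CommRingCat.ofHom (P1.chartMap 0 (X.residueField η) g)) ≫
    Proj.awayι P1.grading.{u} (P1.T 0) (P1.X_mem 0) one_pos := pullback.lift_fst _ _ _

/-- The point. -/
abbrev pt : CohB1.ProjSpaceOver 1 X := σ η g (IsLocalRing.closedPoint (X.residueField η))

theorem tb_pt : tb X (pt η g) = η := by
  rw [← Scheme.Hom.comp_apply, σ_tb]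
  exact Scheme.fromSpecResidueField_apply η _

theorem pt_mem : prZ X (pt η g) ∈ stdOpen 1 P1.R0.{u} 0 := by
  have h : prZ X (pt η g) ∈ (Proj.awayι P1.grading.{u} (P1.T 0) (P1.X_mem 0) one_pos).opensRange := by
    rw [← Scheme.Hom.comp_apply, σ_prZ]
    exact ⟨_, rfl⟩
  rwa [Proj.opensRange_awayι] at h

/-- The map of residue fields at the point, back to the residue field of the base point. -/
abbrev back : (CohB1.ProjSpaceOver 1 X).residueField (pt η g) ⟶ CommRingCat.of (X.residueField η) :=
  Scheme.descResidueField (Scheme.stalkClosedPointTo (σ η g))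

theorem back_residue (s : (CohB1.ProjSpaceOver 1 X).presheaf.stalk (pt η g)) :
    back η g ((CohB1.ProjSpaceOver 1 X).residue _ s) = Scheme.stalkClosedPointTo (σ η g) s :=
  congr($(Scheme.residue_descResidueField (Scheme.stalkClosedPointTo (σ η g))) s)

theorem back_ratio : back η g (ratioAt (pt η g) (pt_mem η g)) = g := by
  rw [ratioAt, back_residue]
  have h := congr($(Scheme.germ_stalkClosedPointTo (σ η g) (prZ X ⁻¹ᵁ stdOpen 1 P1.R0 0) (pt_mem η g))
    ((prZ X).app (stdOpen 1 P1.R0 0) (coordRatio 1 P1.R0.{u} 0 1)))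
  refine h.trans ?_
  have htop : (⊤ : (Spec (CommRingCat.of (X.residueField η))).Opens) ≤ (σ η g ≫ prZ X) ⁻¹ᵁ stdOpen 1 P1.R0 0 :=
    (Scheme.preimage_eq_top_of_closedPoint_mem (σ η g ≫ prZ X) (pt_mem η g)).ge
  have htop' := htop
  rw [σ_prZ] at htop'
  have h1 : (σ η g ≫ prZ X).appLE (stdOpen 1 P1.R0 0) ⊤ htop (coordRatio 1 P1.R0.{u} 0 1) =
      (Scheme.ΓSpecIso (CommRingCat.of (X.residueField η))).inv g := by
    have hcongr : ∀ (a b : Spec (CommRingCat.of (X.residueField η)) ⟶ CohB1.ProjSpace 1 P1.R0.{u}) (e : a = b)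
        (h : (⊤ : (Spec (CommRingCat.of (X.residueField η))).Opens) ≤ a ⁻¹ᵁ stdOpen 1 P1.R0 0)
        (h' : (⊤ : (Spec (CommRingCat.of (X.residueField η))).Opens) ≤ b ⁻¹ᵁ stdOpen 1 P1.R0 0),
        a.appLE (stdOpen 1 P1.R0 0) ⊤ h = b.appLE (stdOpen 1 P1.R0 0) ⊤ h' := by
      rintro a b rfl h h'
      rfl
    rw [hcongr _ _ (σ_prZ η g) htop htop', show coordRatio 1 P1.R0.{u} 0 1 = coordRatio 1 P1.R0.{u} 0 (otherIdx 0)
      from rfl, coordRatio_eq]
    refine (congr($(awayι_appLE (CommRingCat.ofHom (P1.chartMap 0 (X.residueField η) g)) htop') (uElem 0))).trans ?_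
    show (Scheme.ΓSpecIso (CommRingCat.of (X.residueField η))).inv (P1.chartMap 0 (X.residueField η) g (uElem 0)) = _
    rw [chartMap_uElem]
  refine Eq.trans ?_ ((congrArg (Scheme.ΓSpecIso (CommRingCat.of (X.residueField η))).hom h1).trans
    (congr($((Scheme.ΓSpecIso (CommRingCat.of (X.residueField η))).inv_hom_id) g)))
  simp only [Scheme.Hom.appLE, Scheme.Hom.comp_app, CommRingCat.comp_apply, Iso.trans_hom, Functor.mapIso_hom,
    Iso.op_hom, eqToIso.hom]
  rfl

theorem back_residueFieldMap (a : X.residueField (tb X (pt η g))) :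
    back η g ((tb X).residueFieldMap (pt η g) a) = (X.residueFieldCongr (tb_pt η g)).hom a := by
  have h := congr($(Scheme.descResidueField_stalkClosedPointTo_comp (tb X) (σ η g)) a)
  refine h.symm.trans ?_
  have key : ∀ (τ : Spec (CommRingCat.of (X.residueField η)) ⟶ X), τ = X.fromSpecResidueField η →
      ∀ (hb : τ (IsLocalRing.closedPoint (X.residueField η)) = η)
        (b : X.residueField (τ (IsLocalRing.closedPoint (X.residueField η)))),
        Scheme.descResidueField (Scheme.stalkClosedPointTo τ) b = (X.residueFieldCongr hb).hom b := by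
    intro τ hτ hb b
    have h1 := Scheme.descResidueField_stalkClosedPointTo_fromSpecResidueField (X.residueField η) X τ
    have h2 : Spec.map (X.residueFieldCongr hb).hom ≫
        X.fromSpecResidueField (τ (IsLocalRing.closedPoint (X.residueField η))) = X.fromSpecResidueField η :=
      Scheme.residueFieldCongr_fromSpecResidueField _
    have h3 : Spec.map (Scheme.descResidueField (Scheme.stalkClosedPointTo τ)) =
        Spec.map (X.residueFieldCongr hb).hom :=
      (cancel_mono (X.fromSpecResidueField (τ (IsLocalRing.closedPoint (X.residueField η))))).1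
        (h1.trans (hτ.trans h2.symm))
    exact congr($(Spec.map_injective h3) b)
  exact key (σ η g ≫ tb X) (σ_tb η g) (tb_pt η g) a

theorem bijective_residueFieldMap_pt : Function.Bijective ((tb X).residueFieldMap (pt η g)) := by
  refine ⟨((tb X).residueFieldMap (pt η g)).hom.injective, fun a => ?_⟩
  obtain ⟨b, hb⟩ := (ConcreteCategory.bijective_of_isIso (X.residueFieldCongr (tb_pt η g)).hom).2 (back η g a)
  exact ⟨b, (back η g).hom.injective ((back_residueFieldMap η g b).trans hb)⟩

theorem pt_ne (hg : g ≠ 0) : pt η g ∉ Set.range ⇑(P1.sect X 0) := by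
  rw [mem_range_sect, not_not, otherIdx_zero, ← ratioAt_ne_zero_iff (pt η g) (pt_mem η g)]
  intro e
  refine hg ?_
  rw [← back_ratio η g, e, map_zero]

variable {δ : X → ℤ} {δP : ↥(CohB1.ProjSpaceOver 1 X) → ℤ}

theorem delta_pt (hP : Cyc.DeltaCompat (tb X) δP δ) : δP (pt η g) = δ η := by
  obtain ⟨n, hn, e⟩ := hP (pt η g)
  letI := ((tb X).residueFieldMap (pt η g)).hom.toAlgebra
  haveI : Algebra.IsAlgebraic (X.residueField (tb X (pt η g))) ((CohB1.ProjSpaceOver 1 X).residueField (pt η g)) :=
    ⟨fun a => by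
      obtain ⟨b, rfl⟩ := (bijective_residueFieldMap_pt η g).2 a
      exact isAlgebraic_algebraMap b⟩
  have h0 : ((n : ℕ) : Cardinal.{u}) = 0 := hn.symm.trans trdeg_eq_zero
  rw [Nat.cast_eq_zero] at h0
  rw [tb_pt] at e
  omega

theorem divFun_normGen_pt (x : X) :
    Cyc.divFun δ (tb X (pt η g)) (Cyc.normGen (tb X) (pt η g) (ratioAt (pt η g) (pt_mem η g))) x =
      Cyc.divFun δ η g x := by
  obtain ⟨b, hb⟩ := (bijective_residueFieldMap_pt η g).2 (ratioAt (pt η g) (pt_mem η g))
  letI := ((tb X).residueFieldMap (pt η g)).hom.toAlgebra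
  have e1 : Cyc.normGen (tb X) (pt η g) (ratioAt (pt η g) (pt_mem η g)) = b := by
    rw [← hb]
    show Algebra.norm _ (algebraMap _ _ b) = b
    rw [Algebra.norm_algebraMap,
      ((AlgEquiv.ofBijective (Algebra.ofId _ _)
        (bijective_residueFieldMap_pt η g)).toLinearEquiv).finrank_eq.symm, Module.finrank_self, pow_one]
  rw [e1]
  have e2 : (X.residueFieldCongr (tb_pt η g)).hom b = g := by
    rw [← back_residueFieldMap η g b, hb, back_ratio]
  have hc : ∀ (a : X) (e : a = η) (c : X.residueField a), (X.residueFieldCongr e).hom c = g →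
      Cyc.divFun δ a c x = Cyc.divFun δ η g x := by
    rintro a rfl c hc
    rw [← hc]
    simp
  exact hc _ (tb_pt η g) b e2

/-- The divisor of a rational function as a difference of fibres. -/
theorem fibre_sub_eq_divFun (hX : Cyc.IsSetup X δ) (hP : Cyc.DeltaCompat (tb X) δP δ) (k : ℤ) (hη : δ η = k + 1)
    (hg : g ≠ 0) {W : Scheme.{u}} [IsIntegral W] (ι : W ⟶ CohB1.ProjSpaceOver 1 X) [IsClosedImmersion ι]
    (hι : ι (genericPoint W) = pt η g) (x : X) :
    Cyc.subschemeFun δ k (pullback.snd ι (P1.sect X 0)) x - Cyc.subschemeFun δ k (pullback.snd ι (P1.sect X 1)) x =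
      Cyc.divFun δ η g x := by
  have hd := delta_pt η g hP
  rw [fibre_sub_eq hX hP k ι (pt η g) hι (hd.trans hη) (pt_ne η g hg) (pt_mem η g) x,
    if_pos (by rw [hd, tb_pt]), divFun_normGen_pt]

/-- The scheme-theoretic image of an integral scheme. -/
theorem isIntegral_image {S P : Scheme.{u}} [IsIntegral S] (f : S ⟶ P) [QuasiCompact f] :
    ∃ _ : IsIntegral f.ker.subscheme, f.ker.subschemeι (genericPoint f.ker.subscheme) = f (genericPoint S) := by
  haveI : IsReduced f.ker.subscheme := (S2266.result f).1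
  have hgen : IsGenericPoint (f.toImage (genericPoint S)) (Set.univ : Set f.ker.subscheme) := by
    have h := (genericPoint_spec S).image f.toImage.continuous
    rw [Set.image_univ] at h
    rwa [f.toImage.denseRange.closure_eq] at h
  haveI : IrreducibleSpace f.ker.subscheme := by
    haveI : Nonempty f.ker.subscheme := ⟨f.toImage (genericPoint S)⟩
    have := hgen.isIrreducible
    exact { isPreirreducible_univ := this.2, toNonempty := inferInstance }
  haveI : IsIntegral f.ker.subscheme := isIntegral_of_irreducibleSpace_of_isReduced _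
  refine ⟨inferInstance, ?_⟩
  rw [(genericPoint_spec f.ker.subscheme).eq hgen, ← Scheme.Hom.comp_apply]
  exact congrArg (fun φ : S ⟶ P => φ (genericPoint S)) f.toImage_imageι

end Groth.Agent.P1DivLib
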